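import Mathlib
import Groth.Prelude.Def_W4c6instabfans3Fan

/-!
Formal fans: the projective realization through common sub-cones, bounded maps.
-/

set_option autoImplicit false
set_option backward.isDefEq.respectTransparency false
set_option backward.isDefEq.respectTransparency.types false
set_option linter.style.haveILetI false
set_option maxHeartbeats 800000

universe u

open CategoryTheory CategoryTheory.Limits Opposite Instab

namespace Groth.Agent.FanLib

/-- The real extension of an integral linear map. -/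
def toR {k n : ℕ} (L : (Fin k → ℤ) →ₗ[ℤ] (Fin n → ℤ)) : (Fin k → ℝ) →ₗ[ℝ] (Fin n → ℝ) where
  toFun v := fun j => ∑ i, (L (Pi.single i 1) j : ℝ) * v i
  map_add' v w := by funext j; simp [mul_add, Finset.sum_add_distrib]
  map_smul' c v := by
    funext j
    simp only [Pi.smul_apply, smul_eq_mul, Finset.mul_sum, RingHom.id_apply]
    exact Finset.sum_congr rfl fun i _ => mul_left_comm _ _ _

theorem toR_int {k n : ℕ} (L : (Fin k → ℤ) →ₗ[ℤ] (Fin n → ℤ)) (w : Fin k → ℤ) :
    toR L (fun i => (w i : ℝ)) = fun j => (L w j : ℝ) := by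
  funext j
  have hw : w = ∑ i, w i • (Pi.single i 1 : Fin k → ℤ) := by
    funext i; simp [Finset.sum_apply, Pi.single_apply]
  conv_rhs => rw [hw, map_sum]
  rw [Finset.sum_apply, Int.cast_sum]
  show ∑ i, (L (Pi.single i 1) j : ℝ) * (w i : ℝ) = _
  refine Finset.sum_congr rfl fun i _ => ?_
  rw [map_smul, Pi.smul_apply, smul_eq_mul, Int.cast_mul, mul_comm]

theorem toR_comp {k m n : ℕ} (L : (Fin k → ℤ) →ₗ[ℤ] (Fin m → ℤ)) (L' : (Fin m → ℤ) →ₗ[ℤ] (Fin n → ℤ))
    (v : Fin k → ℝ) : toR (L'.comp L) v = toR L' (toR L v) := by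
  have h : toR (L'.comp L) = (toR L').comp (toR L) := by
    refine LinearMap.pi_ext' fun i => LinearMap.ext_ring ?_
    have e : (LinearMap.single ℝ (fun _ : Fin k => ℝ) i) 1 = fun a => ((Pi.single i 1 : Fin k → ℤ) a : ℝ) := by
      funext a; by_cases ha : a = i <;> simp [Pi.single_apply, ha]
    simp only [LinearMap.comp_apply, e, toR_int]
  exact LinearMap.congr_fun h v

/-- An integral vector with the same support in the same rational subspace. -/
theorem exists_int_supp {ι κ : Type*} [Fintype ι] (M : κ → ι → ℤ) (x : ι → ℝ) (hx : ∀ i, 0 ≤ x i)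
    (hM : ∀ j, ∑ i, (M j i : ℝ) * x i = 0) :
    ∃ w : ι → ℤ, (∀ i, 0 < x i → 0 < w i) ∧ (∀ i, x i = 0 → w i = 0) ∧ ∀ j, ∑ i, M j i * w i = 0 := by
  classical
  let W := Submodule.span ℚ (Set.range x)
  haveI : Module.Finite ℚ W := Module.Finite.span_of_finite ℚ (Set.finite_range x)
  let b := Module.finBasis ℚ W
  let xs : ι → W := fun i => ⟨x i, Submodule.subset_span ⟨i, rfl⟩⟩
  let q : ι → Fin (Module.finrank ℚ W) → ℚ := fun i j => b.repr (xs i) j
  have hx' : ∀ i, x i = ∑ j, (q i j : ℝ) * ((b j : W) : ℝ) := fun i => by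
    have := congrArg (fun z : W => (z : ℝ)) (b.sum_repr (xs i))
    simp only [Submodule.coe_sum, Submodule.coe_smul, Rat.smul_def] at this
    exact this.symm
  have hq : ∀ j l, ∑ i, (M j i : ℚ) * q i l = 0 := fun j l => by
    have h : ∑ i, (M j i : ℚ) • xs i = 0 := by
      apply Subtype.ext
      simp only [Submodule.coe_sum, Submodule.coe_smul, Rat.smul_def, Rat.cast_intCast, ZeroMemClass.coe_zero]
      exact hM j
    have := congrArg (fun z => b.repr z l) h
    simpa [map_sum] using this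
  have hO : IsOpen {r : Fin (Module.finrank ℚ W) → ℝ | ∀ i, 0 < x i → 0 < ∑ j, (q i j : ℝ) * r j} := by
    simp only [Set.setOf_forall]
    exact isOpen_iInter_of_finite fun i => isOpen_iInter_of_finite fun _ => isOpen_lt continuous_const (by fun_prop)
  obtain ⟨r, hr⟩ := (DenseRange.piMap fun _ : Fin (Module.finrank ℚ W) => Rat.denseRange_cast (𝕜 := ℝ)).exists_mem_open hO
    ⟨fun j => ((b j : W) : ℝ), fun i hi => (hx' i) ▸ hi⟩
  let v : ι → ℚ := fun i => ∑ j, q i j * r j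
  obtain ⟨N, hN⟩ := IsLocalization.exist_integer_multiples_of_finite (nonZeroDivisors ℤ) v
  choose a ha using hN
  have ha' : ∀ i, (((N : ℤ) * a i : ℤ) : ℚ) = ((N : ℤ) : ℚ) ^ 2 * v i := fun i => by
    have h1 : ((a i : ℤ) : ℚ) = ((N : ℤ) : ℚ) * v i := by
      simpa [zsmul_eq_mul] using ha i
    push_cast
    rw [h1]; ring
  have hN0 : (0 : ℚ) < ((N : ℤ) : ℚ) ^ 2 := by
    have : ((N : ℤ) : ℚ) ≠ 0 := Int.cast_ne_zero.mpr (nonZeroDivisors.ne_zero N.2)
    positivity
  refine ⟨fun i => (N : ℤ) * a i, fun i hi => ?_, fun i hi => ?_, fun j => ?_⟩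
  · have h1 : (0 : ℚ) < v i := by
      have h2 := hr i hi
      simp only [Pi.map_apply] at h2
      rw [← Rat.cast_pos (K := ℝ)]
      simpa [v] using h2
    have : (0 : ℚ) < (((N : ℤ) * a i : ℤ) : ℚ) := by rw [ha']; exact mul_pos hN0 h1
    exact Int.cast_pos.mp this
  · have h1 : xs i = 0 := Subtype.ext hi
    have h2 : v i = 0 := by simp [v, q, h1]
    have : (((N : ℤ) * a i : ℤ) : ℚ) = 0 := by rw [ha', h2, mul_zero]
    exact Int.cast_eq_zero.mp this
  · have : ((∑ i, M j i * ((N : ℤ) * a i) : ℤ) : ℚ) = 0 := by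
      rw [Int.cast_sum]
      simp only [Int.cast_mul]
      calc ∑ i, (M j i : ℚ) * (((N : ℤ) : ℚ) * (a i : ℚ))
          = ∑ i, ∑ l, ((N : ℤ) : ℚ) ^ 2 * ((M j i : ℚ) * q i l * r l) := by
            refine Finset.sum_congr rfl fun i _ => ?_
            have := ha' i
            push_cast at this
            rw [this, show v i = ∑ l, q i l * r l from rfl, Finset.mul_sum, Finset.mul_sum]
            exact Finset.sum_congr rfl fun l _ => by ring
        _ = 0 := by
            rw [Finset.sum_comm]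
            refine Finset.sum_eq_zero fun l _ => ?_
            rw [← Finset.mul_sum, ← Finset.sum_mul, hq, zero_mul, mul_zero]
    exact_mod_cast this

/-- A nonnegative real solution of integral equations is a positive combination of independent integral ones. -/
theorem exists_int_decomp {ι κ : Type*} [Fintype ι] (M : κ → ι → ℤ) (x : ι → ℝ) (hx : ∀ i, 0 ≤ x i)
    (hM : ∀ j, ∑ i, (M j i : ℝ) * x i = 0) :
    ∃ (m : ℕ) (w : Fin m → ι → ℤ) (t : Fin m → ℝ), (∀ l i, 0 ≤ w l i) ∧ (∀ l j, ∑ i, M j i * w l i = 0) ∧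
      (∀ l, 0 < t l) ∧ LinearIndependent ℤ w ∧ (∀ l i, x i = 0 → w l i = 0) ∧
      x = ∑ l, t l • (fun i => (w l i : ℝ)) := by
  classical
  obtain ⟨N, hN⟩ : ∃ N, (Finset.univ.filter fun i => 0 < x i).card ≤ N := ⟨_, le_rfl⟩
  induction N generalizing x with
  | zero =>
    refine ⟨0, Fin.elim0, Fin.elim0, fun l => l.elim0, fun l => l.elim0, fun l => l.elim0,
      linearIndependent_empty_type, fun l => l.elim0, ?_⟩
    funext i
    have := Finset.card_eq_zero.mp (Nat.le_zero.mp hN)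
    rw [Finset.filter_eq_empty_iff] at this
    simp [le_antisymm (not_lt.mp (this (Finset.mem_univ i))) (hx i)]
  | succ N ih =>
    by_cases hz : ∀ i, ¬ 0 < x i
    · refine ih x hx hM ?_
      rw [Finset.filter_eq_empty_iff.mpr fun i _ => hz i, Finset.card_empty]
      exact Nat.zero_le _
    push Not at hz
    obtain ⟨w, hw1, hw2, hw3⟩ := exists_int_supp M x hx hM
    obtain ⟨i₀, hi₀, hmin⟩ := (Finset.univ.filter fun i => 0 < x i).exists_min_image (fun i => x i / w i)
      (by obtain ⟨i, hi⟩ := hz; exact ⟨i, Finset.mem_filter.mpr ⟨Finset.mem_univ _, hi⟩⟩)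
    have hi₀' : 0 < x i₀ := (Finset.mem_filter.mp hi₀).2
    have hw0 : ∀ i, 0 ≤ w i := fun i => (hx i).lt_or_eq.elim (fun h => (hw1 i h).le) fun h => (hw2 i h.symm).ge
    set s := x i₀ / w i₀
    have hs : 0 < s := div_pos hi₀' (by exact_mod_cast hw1 i₀ hi₀')
    have hy : ∀ i, 0 ≤ x i - s * w i := fun i => by
      rcases (hx i).lt_or_eq with h | h
      · have := hmin i (Finset.mem_filter.mpr ⟨Finset.mem_univ _, h⟩)
        rw [le_div_iff₀ (by exact_mod_cast hw1 i h)] at this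
        linarith
      · rw [← h, hw2 i h.symm]; simp
    have hy0 : x i₀ - s * w i₀ = 0 := by
      rw [div_mul_cancel₀ _ (ne_of_gt (show (0 : ℝ) < w i₀ by exact_mod_cast hw1 i₀ hi₀')), sub_self]
    obtain ⟨m, W, t, hW1, hW2, ht, hW3, hW4, hW5⟩ := ih (fun i => x i - s * w i) hy (fun j => by
        simp only [mul_sub, Finset.sum_sub_distrib, hM j, zero_sub, neg_eq_zero]
        have : ((∑ i, M j i * w i : ℤ) : ℝ) = 0 := by rw [hw3 j]; simp
        push_cast at this
        calc ∑ i, (M j i : ℝ) * (s * w i) = s * ∑ i, (M j i : ℝ) * w i := by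
              rw [Finset.mul_sum]; exact Finset.sum_congr rfl fun i _ => by ring
          _ = 0 := by rw [this, mul_zero]) (by
        have hsub : (Finset.univ.filter fun i => 0 < x i - s * w i) ⊆
            (Finset.univ.filter fun i => 0 < x i).erase i₀ := fun i hi => by
          simp only [Finset.mem_filter, Finset.mem_univ, true_and, Finset.mem_erase] at hi ⊢
          refine ⟨fun h => by rw [h, hy0] at hi; exact lt_irrefl _ hi, ?_⟩
          have h0 : (0 : ℝ) ≤ s * w i := mul_nonneg hs.le (by exact_mod_cast hw0 i)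
          linarith
        have := Finset.card_le_card hsub
        rw [Finset.card_erase_of_mem hi₀] at this
        omega)
    refine ⟨m + 1, Fin.cons w W, Fin.cons s t, ?_, ?_, ?_, ?_, ?_, ?_⟩
    · intro l; refine Fin.cases ?_ ?_ l <;> simp [hw0, hW1]
    · intro l; refine Fin.cases ?_ ?_ l <;> simp [hw3, hW2]
    · intro l; refine Fin.cases ?_ ?_ l <;> simp [hs, ht]
    · rw [Fintype.linearIndependent_iff]
      intro g hg
      have h0 : g 0 = 0 := by
        have h := congrFun hg i₀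
        simp [Fin.sum_univ_succ, Finset.sum_apply, fun l => hW4 l i₀ hy0] at h
        exact h.resolve_right (hw1 i₀ hi₀').ne'
      have hr := Fintype.linearIndependent_iff.mp hW3 (fun l => g l.succ) (by
        simpa [Fin.sum_univ_succ, h0] using hg)
      intro l
      exact Fin.cases h0 hr l
    · intro l i hi
      refine Fin.cases ?_ ?_ l
      · simpa using hw2 i hi
      · intro l'
        simpa using hW4 l' i (by rw [hi, hw2 i hi]; simp)
    · funext i
      have := congrFun hW5 i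
      simp only [Finset.sum_apply, Pi.smul_apply, smul_eq_mul] at this
      simp only [Fin.sum_univ_succ, Fin.cons_zero, Fin.cons_succ, Pi.add_apply, Finset.sum_apply, Pi.smul_apply, smul_eq_mul, ← this]
      ring

theorem toR_injective {k n : ℕ} {L : (Fin k → ℤ) →ₗ[ℤ] (Fin n → ℤ)} (hL : Function.Injective L) :
    Function.Injective (toR L) := by
  have hf : Function.Injective (toR L : (Fin k → ℝ) → Fin n → ℝ) := by
    refine LinearMap.ker_eq_bot.mp ((Submodule.eq_bot_iff _).mpr fun v hv => ?_)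
    rw [LinearMap.mem_ker] at hv
    -- split into positive and negative part
    let x : Fin k ⊕ Fin k → ℝ := Sum.elim (fun i => max (v i) 0) (fun i => max (-v i) 0)
    let M : Fin n → Fin k ⊕ Fin k → ℤ := fun j => Sum.elim (fun i => L (Pi.single i 1) j) (fun i => - L (Pi.single i 1) j)
    have hM : ∀ j, ∑ p, (M j p : ℝ) * x p = 0 := fun j => by
      rw [Fintype.sum_sum_type, ← Finset.sum_add_distrib]
      refine Eq.trans (Finset.sum_congr rfl fun i _ => ?_) (congrFun hv j)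
      have : max (v i) 0 - max (-v i) 0 = v i := by
        rcases le_total 0 (v i) with h | h <;> simp [h]
      simp only [M, x, Sum.elim_inl, Sum.elim_inr, Int.cast_neg]
      linear_combination (L (Pi.single i 1) j : ℝ) * this
    have hx : ∀ p, 0 ≤ x p := by rintro (i | i) <;> exact le_max_right _ _
    obtain ⟨m, w, t, -, hw, -, -, hw0, hxe⟩ := exists_int_decomp M x hx hM
    funext i
    have key : ∀ l, w l (Sum.inl i) = w l (Sum.inr i) := fun l => by
      have h1 : L (fun a => w l (Sum.inl a) - w l (Sum.inr a)) = 0 := by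
        funext j
        have h2 := hw l j
        rw [Fintype.sum_sum_type] at h2
        rw [Pi.zero_apply, ← h2]
        have e : (fun a => w l (Sum.inl a) - w l (Sum.inr a)) =
            ∑ a, (w l (Sum.inl a) - w l (Sum.inr a)) • (Pi.single a 1 : Fin k → ℤ) := by
          funext b; simp [Finset.sum_apply, Pi.single_apply]
        rw [e, map_sum, ← Finset.sum_add_distrib, Finset.sum_apply]
        refine Finset.sum_congr rfl fun a _ => ?_
        simp only [M, Sum.elim_inl, Sum.elim_inr, map_smul, Pi.smul_apply, smul_eq_mul]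
        ring
      exact sub_eq_zero.mp (congrFun (hL (h1.trans (map_zero L).symm)) i)
    have h1 := congrFun hxe (Sum.inl i)
    have h2 := congrFun hxe (Sum.inr i)
    simp only [x, Sum.elim_inl, Sum.elim_inr, Finset.sum_apply, Pi.smul_apply, smul_eq_mul, key] at h1 h2
    have h3 : max (v i) 0 = max (-v i) 0 := h1.trans h2.symm
    rcases le_total 0 (v i) with h | h <;> simp [h] at h3 <;> simpa using h3
  exact hf

variable {k m n : ICone}

theorem realMap_eq (φ : k ⟶ n) (v : Fin k.dim → ℝ) : φ.realMap v = toR φ.toLin v := rfl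

theorem realMap_comp (φ : k ⟶ m) (ψ : m ⟶ n) (v : Fin k.dim → ℝ) :
    (φ ≫ ψ).realMap v = ψ.realMap (φ.realMap v) := toR_comp φ.toLin ψ.toLin v

theorem realMap_id (v : Fin n.dim → ℝ) : (𝟙 n : n ⟶ n).realMap v = v := by
  funext j
  show ∑ i, ((Pi.single i (1 : ℤ) : Fin n.dim → ℤ) j : ℝ) * v i = v j
  rw [Finset.sum_eq_single j] <;> simp +contextual [Pi.single_apply]

theorem realMap_smul (φ : k ⟶ n) (c : ℝ) (v : Fin k.dim → ℝ) : φ.realMap (c • v) = c • φ.realMap v :=
  map_smul (toR φ.toLin) c v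

theorem realMap_injective (φ : k ⟶ n) : Function.Injective φ.realMap := toR_injective φ.injective

theorem realMap_nonneg (φ : k ⟶ n) {v : Fin k.dim → ℝ} (hv : ∀ i, 0 ≤ v i) (j) : 0 ≤ φ.realMap v j :=
  Finset.sum_nonneg fun i _ => mul_nonneg (Int.cast_nonneg (φ.nonneg _ (fun a => by
    by_cases h : a = i <;> simp [Pi.single_apply, h]) j)) (hv i)

theorem smul_orth (v : Fan.Orth n) {c : ℝ} (hc : 0 < c) : (∀ i, 0 ≤ (c • v.1) i) ∧ c • v.1 ≠ 0 :=
  ⟨fun i => mul_nonneg hc.le (v.2.1 i), smul_ne_zero hc.ne' v.2.2⟩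

/-- Positive multiple of a point of the punctured orthant. -/
noncomputable def scale (v : Fan.Orth n) {c : ℝ} (hc : 0 < c) : Fan.Orth n := ⟨c • v.1, smul_orth v hc⟩

/-- The image of a point of the punctured orthant. -/
noncomputable def push (φ : k ⟶ n) (y : Fan.Orth k) : Fan.Orth n :=
  ⟨φ.realMap y.1, realMap_nonneg φ y.2.1, fun h => y.2.2 (realMap_injective φ (h.trans (map_zero (toR φ.toLin)).symm))⟩

theorem exists_common_refinement' {k k' : ICone} {N : ℕ} (f : (Fin k.dim → ℤ) →ₗ[ℤ] (Fin N → ℤ))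
    (f' : (Fin k'.dim → ℤ) →ₗ[ℤ] (Fin N → ℤ)) (hf : Function.Injective f) (hf' : Function.Injective f')
    (y : Fan.Orth k) (y' : Fan.Orth k')
    (c : ℝ) (hc : 0 < c) (h : toR f y.1 = c • toR f' y'.1) :
    ∃ (l : ICone) (ψ : l ⟶ k) (ψ' : l ⟶ k') (z : Fan.Orth l),
      f.comp ψ.toLin = f'.comp ψ'.toLin ∧ ψ.realMap z.1 = y.1 ∧ ψ'.realMap z.1 = c • y'.1 := by
  let x : Fin k.dim ⊕ Fin k'.dim → ℝ := Sum.elim y.1 (c • y'.1)
  let M : Fin N → Fin k.dim ⊕ Fin k'.dim → ℤ := fun j =>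
    Sum.elim (fun i => f (Pi.single i 1) j) (fun i => - f' (Pi.single i 1) j)
  have hM : ∀ j, ∑ p, (M j p : ℝ) * x p = 0 := fun j => by
    rw [← map_smul] at h
    have e : ∑ i, (f (Pi.single i 1) j : ℝ) * y.1 i = ∑ i, (f' (Pi.single i 1) j : ℝ) * (c • y'.1) i :=
      congrFun h j
    rw [Fintype.sum_sum_type]
    simp only [M, x, Sum.elim_inl, Sum.elim_inr, Int.cast_neg, neg_mul, Finset.sum_neg_distrib, e, add_neg_cancel]
  have hx : ∀ p, 0 ≤ x p := by
    rintro (i | i)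
    · exact y.2.1 i
    · exact (smul_orth y' hc).1 i
  obtain ⟨m, w, t, hw0, hwM, ht, hli, -, hxe⟩ := exists_int_decomp M x hx hM
  have hm : 0 < m := by
    rcases Nat.eq_zero_or_pos m with h0 | h0
    · subst h0
      exact absurd (funext fun i => by simpa [x] using congrFun hxe (Sum.inl i)) y.2.2
    · exact h0
  let l : ICone := ⟨⟨m, hm⟩⟩
  let A : (Fin m → ℤ) →ₗ[ℤ] (Fin k.dim ⊕ Fin k'.dim → ℤ) := Fintype.linearCombination ℤ w
  let L : (Fin m → ℤ) →ₗ[ℤ] (Fin k.dim → ℤ) := (LinearMap.funLeft ℤ ℤ Sum.inl).comp A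
  let L' : (Fin m → ℤ) →ₗ[ℤ] (Fin k'.dim → ℤ) := (LinearMap.funLeft ℤ ℤ Sum.inr).comp A
  have hA : Function.Injective A := linearIndependent_iff_injective_fintypeLinearCombination.mp hli
  have hcomm : f.comp L = f'.comp L' := by
    refine LinearMap.ext fun a => funext fun j => ?_
    have h0 : ∑ p, M j p * A a p = 0 := by
      simp only [A, Fintype.linearCombination_apply, Finset.sum_apply, Pi.smul_apply, smul_eq_mul, Finset.mul_sum]
      rw [Finset.sum_comm]
      refine Finset.sum_eq_zero fun q _ => ?_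
      calc ∑ p, M j p * (a q * w q p) = a q * ∑ p, M j p * w q p := by
            rw [Finset.mul_sum]; exact Finset.sum_congr rfl fun p _ => by ring
        _ = 0 := by rw [hwM, mul_zero]
    have e1 : ∀ {r : ℕ} (T : (Fin r → ℤ) →ₗ[ℤ] (Fin N → ℤ)) (b : Fin r → ℤ),
        T b j = ∑ i, T (Pi.single i 1) j * b i := fun T b => by
      conv_lhs => rw [pi_eq_sum_univ' b, map_sum, Finset.sum_apply]
      exact Finset.sum_congr rfl fun i _ => by rw [map_smul, Pi.smul_apply, smul_eq_mul, mul_comm]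
    rw [Fintype.sum_sum_type] at h0
    simp only [M, Sum.elim_inl, Sum.elim_inr, neg_mul, Finset.sum_neg_distrib, add_neg_eq_zero] at h0
    show f (L a) j = f' (L' a) j
    rw [e1 f, e1 f']
    exact h0
  have hLi : Function.Injective L := fun a b hab => hA (funext (Sum.rec (congrFun hab) (fun i => by
    have := hf' ((LinearMap.congr_fun hcomm a).symm.trans ((congrArg f hab).trans (LinearMap.congr_fun hcomm b)))
    exact congrFun this i)))
  have hL'i : Function.Injective L' := fun a b hab => hA (funext (Sum.rec (fun i => by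
    have := hf ((LinearMap.congr_fun hcomm a).trans ((congrArg f' hab).trans (LinearMap.congr_fun hcomm b).symm))
    exact congrFun this i) (congrFun hab)))
  have hA0 : ∀ a : Fin m → ℤ, (∀ i, 0 ≤ a i) → ∀ p, 0 ≤ A a p := fun a ha p => by
    simp only [A, Fintype.linearCombination_apply, Finset.sum_apply, Pi.smul_apply, smul_eq_mul]
    exact Finset.sum_nonneg fun q _ => mul_nonneg (ha q) (hw0 q p)
  let ψ : l ⟶ k := ⟨L, hLi, fun a ha i => hA0 a ha (Sum.inl i)⟩
  let ψ' : l ⟶ k' := ⟨L', hL'i, fun a ha i => hA0 a ha (Sum.inr i)⟩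
  have hsingle : ∀ q p, A (Pi.single q 1) p = w q p := fun q p => by
    simp only [A, Fintype.linearCombination_apply_single, one_smul]
  refine ⟨l, ψ, ψ', ⟨t, fun i => (ht i).le, fun h0 => (ht ⟨0, hm⟩).ne' (congrFun h0 _)⟩,
    hcomm, funext fun i => ?_, funext fun i => ?_⟩
  · show ∑ q, (A (Pi.single q 1) (Sum.inl i) : ℝ) * t q = _
    have := congrFun hxe (Sum.inl i)
    simp only [x, Sum.elim_inl, Finset.sum_apply, Pi.smul_apply, smul_eq_mul] at this
    rw [this]
    exact Finset.sum_congr rfl fun q _ => by rw [hsingle, mul_comm]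
  · show ∑ q, (A (Pi.single q 1) (Sum.inr i) : ℝ) * t q = _
    have := congrFun hxe (Sum.inr i)
    simp only [x, Sum.elim_inr, Finset.sum_apply, Pi.smul_apply, smul_eq_mul] at this
    rw [Pi.smul_apply, smul_eq_mul, this]
    exact Finset.sum_congr rfl fun q _ => by rw [hsingle, mul_comm]

theorem exists_common_refinement {k k' : ICone} (φ : k ⟶ n) (φ' : k' ⟶ n) (y : Fan.Orth k) (y' : Fan.Orth k')
    (c : ℝ) (hc : 0 < c) (h : φ.realMap y.1 = c • φ'.realMap y'.1) :
    ∃ (l : ICone) (ψ : l ⟶ k) (ψ' : l ⟶ k') (z : Fan.Orth l),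
      ψ ≫ φ = ψ' ≫ φ' ∧ ψ.realMap z.1 = y.1 ∧ ψ'.realMap z.1 = c • y'.1 := by
  obtain ⟨l, ψ, ψ', z, e, h1, h2⟩ := exists_common_refinement' φ.toLin φ'.toLin φ.injective φ'.injective y y' c hc h
  exact ⟨l, ψ, ψ', z, ICone.Hom.ext e, h1, h2⟩

/-- Two marked cones have a common marked sub-cone. -/
def Common {F : Fan.{u}} (p q : Fan.Pt F) : Prop :=
  ∃ (l : ICone) (ψ : l ⟶ p.1.1) (ψ' : l ⟶ q.1.1) (z : Fan.Orth l) (a b : ℝ),
    F.map ψ.op p.1.2 = F.map ψ'.op q.1.2 ∧ 0 < a ∧ 0 < b ∧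
      p.2.1 = a • ψ.realMap z.1 ∧ q.2.1 = b • ψ'.realMap z.1

variable {F G H : Fan.{u}}

theorem common_refl (p : Fan.Pt F) : Common p p :=
  ⟨p.1.1, 𝟙 _, 𝟙 _, p.2, 1, 1, rfl, one_pos, one_pos, by rw [realMap_id, one_smul], by rw [realMap_id, one_smul]⟩

theorem common_symm {p q : Fan.Pt F} : Common p q → Common q p := by
  rintro ⟨l, ψ, ψ', z, a, b, h, ha, hb, h1, h2⟩
  exact ⟨l, ψ', ψ, z, b, a, h.symm, hb, ha, h2, h1⟩

theorem common_trans {p q r : Fan.Pt F} : Common p q → Common q r → Common p r := by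
  rintro ⟨l, ψ, ψ', z, a, b, h, ha, hb, h1, h2⟩ ⟨l', χ, χ', z', a', b', h', ha', hb', h1', h2'⟩
  have hd : 0 < b⁻¹ * a' := mul_pos (inv_pos.mpr hb) ha'
  obtain ⟨o, π, π', t, hπ, ht, ht'⟩ := exists_common_refinement ψ' χ z z' _ hd (by
    rw [mul_smul, ← h1', h2, inv_smul_smul₀ hb.ne'])
  refine ⟨o, π ≫ ψ, π' ≫ χ', t, a, b' * (b⁻¹ * a')⁻¹, ?_, ha, mul_pos hb' (inv_pos.mpr hd), ?_, ?_⟩
  · rw [op_comp, op_comp, Functor.map_comp_apply, Functor.map_comp_apply, h, ← Functor.map_comp_apply,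
      ← op_comp, hπ, op_comp, Functor.map_comp_apply, h']
  · rw [realMap_comp, ht]; exact h1
  · rw [realMap_comp, ht', realMap_smul, mul_smul, inv_smul_smul₀ hd.ne']; exact h2'

theorem mk_eq_iff {n₁ n₂ : ICone} (ξ₁ : F.obj (op n₁)) (ξ₂ : F.obj (op n₂)) (v₁ : Fan.Orth n₁) (v₂ : Fan.Orth n₂) :
    Fan.P.mk ξ₁ v₁ = Fan.P.mk ξ₂ v₂ ↔ Common (F := F) ⟨⟨n₁, ξ₁⟩, v₁⟩ ⟨⟨n₂, ξ₂⟩, v₂⟩ := by
  constructor
  · intro h
    have h' := Quot.eqvGen_exact h
    generalize (⟨⟨n₁, ξ₁⟩, v₁⟩ : Fan.Pt F) = p, (⟨⟨n₂, ξ₂⟩, v₂⟩ : Fan.Pt F) = q at h'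
    induction h' with
    | rel x y hxy =>
      obtain ⟨φ, ξ, v, w, c, hc, hw⟩ := hxy
      exact ⟨_, 𝟙 _, φ, v, 1, c, by simp, one_pos, hc, by rw [realMap_id, one_smul], hw⟩
    | refl x => exact common_refl x
    | symm x y _ ih => exact common_symm ih
    | trans x y z _ _ ih₁ ih₂ => exact common_trans ih₁ ih₂
  · rintro ⟨l, ψ, ψ', z, a, b, h, ha, hb, h1, h2⟩
    calc Fan.P.mk ξ₁ v₁ = Fan.P.mk (F.map ψ.op ξ₁) z := (Quot.sound (Fan.Rel.glue ψ ξ₁ z v₁ a ha h1)).symm
      _ = Fan.P.mk (F.map ψ'.op ξ₂) z := congrArg (fun e => Fan.P.mk e z) h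
      _ = Fan.P.mk ξ₂ v₂ := Quot.sound (Fan.Rel.glue ψ' ξ₂ z v₂ b hb h2)

theorem mk_glue (φ : k ⟶ n) (ξ : F.obj (op n)) (v : Fan.Orth k) (w : Fan.Orth n) (c : ℝ) (hc : 0 < c)
    (h : w.1 = c • φ.realMap v.1) : Fan.P.mk (F.map φ.op ξ) v = Fan.P.mk ξ w :=
  Quot.sound (Fan.Rel.glue φ ξ v w c hc h)

theorem mk_smul (ξ : F.obj (op n)) (v w : Fan.Orth n) (c : ℝ) (hc : 0 < c) (h : w.1 = c • v.1) :
    Fan.P.mk ξ v = Fan.P.mk ξ w := by
  have := mk_glue (𝟙 n) ξ v w c hc (by rw [realMap_id]; exact h)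
  simpa using this

theorem mk_surjective (x : Fan.P F) : ∃ (n : ICone) (ξ : F.obj (op n)) (v : Fan.Orth n), x = Fan.P.mk ξ v := by
  induction x using Quot.inductionOn with
  | h p => exact ⟨p.1.1, p.1.2, p.2, rfl⟩

theorem map_mk (f : F ⟶ G) (ξ : F.obj (op n)) (v : Fan.Orth n) :
    Fan.P.map f (Fan.P.mk ξ v) = Fan.P.mk (f.app _ ξ) v := rfl

theorem exists_pullback_elem (f : F ⟶ G) (g : H ⟶ G) (a : F.obj (op n)) (b : H.obj (op n))
    (h : f.app _ a = g.app _ b) :
    ∃ c : (pullback f g).obj (op n), (pullback.fst f g).app _ c = a ∧ (pullback.snd f g).app _ c = b := by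
  have hw : Fan.coneMap a ≫ f = Fan.coneMap b ≫ g := by
    apply uliftYonedaEquiv.{u}.injective
    rw [uliftYonedaEquiv_comp, uliftYonedaEquiv_comp]
    simp only [Fan.coneMap, Equiv.apply_symm_apply]
    exact h
  refine ⟨uliftYonedaEquiv (pullback.lift (Fan.coneMap a) (Fan.coneMap b) hw), ?_, ?_⟩
  · rw [← uliftYonedaEquiv_comp, pullback.lift_fst]; exact Equiv.apply_symm_apply _ _
  · rw [← uliftYonedaEquiv_comp, pullback.lift_snd]; exact Equiv.apply_symm_apply _ _

/-- Points with the same image come from the fibre product. -/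
theorem exists_pullback_point (f : F ⟶ G) (g : H ⟶ G) (x : Fan.P F) (x' : Fan.P H)
    (h : Fan.P.map f x = Fan.P.map g x') :
    ∃ y : Fan.P (pullback f g), Fan.P.map (pullback.fst f g) y = x ∧ Fan.P.map (pullback.snd f g) y = x' := by
  obtain ⟨n, ξ, v, rfl⟩ := mk_surjective x
  obtain ⟨n', ξ', v', rfl⟩ := mk_surjective x'
  rw [map_mk, map_mk, mk_eq_iff] at h
  obtain ⟨l, ψ, ψ', z, a, b, he, ha, hb, h1, h2⟩ := h
  obtain ⟨c, hc1, hc2⟩ := exists_pullback_elem f g (F.map ψ.op ξ) (H.map ψ'.op ξ') (by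
    rw [NatTrans.naturality_apply, NatTrans.naturality_apply]; exact he)
  exact ⟨Fan.P.mk c z, by rw [map_mk, hc1]; exact mk_glue ψ ξ z v a ha h1,
    by rw [map_mk, hc2]; exact mk_glue ψ' ξ' z v' b hb h2⟩

theorem map_injective (f : F ⟶ G) (hf : ∀ n : ICone, Function.Injective (f.app (op n))) :
    Function.Injective (Fan.P.map f) := by
  intro x x' h
  obtain ⟨n, ξ, v, rfl⟩ := mk_surjective x
  obtain ⟨n', ξ', v', rfl⟩ := mk_surjective x'
  rw [map_mk, map_mk, mk_eq_iff] at h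
  obtain ⟨l, ψ, ψ', z, a, b, he, ha, hb, h1, h2⟩ := h
  have he' : F.map ψ.op ξ = F.map ψ'.op ξ' := hf l (by
    rw [NatTrans.naturality_apply, NatTrans.naturality_apply]; exact he)
  exact (mk_eq_iff ξ ξ' v v').mpr ⟨l, ψ, ψ', z, a, b, he', ha, hb, h1, h2⟩

theorem map_map (f : F ⟶ G) (g : G ⟶ H) (x : Fan.P F) : Fan.P.map (f ≫ g) x = Fan.P.map g (Fan.P.map f x) := by
  obtain ⟨n, ξ, v, rfl⟩ := mk_surjective x
  rfl

/-- Points of a representable fan are given by their image vectors. -/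
theorem ray_eq_of_mk_eq {k k' : ICone} (φ : (uliftYoneda.{u}.obj n).obj (op k))
    (φ' : (uliftYoneda.{u}.obj n).obj (op k')) (y : Fan.Orth k) (y' : Fan.Orth k')
    (h : Fan.P.mk (F := uliftYoneda.{u}.obj n) φ y = Fan.P.mk φ' y') :
    ∃ c : ℝ, 0 < c ∧ φ.down.realMap y.1 = c • φ'.down.realMap y'.1 := by
  obtain ⟨l, ψ, ψ', z, a, b, he, ha, hb, h1, h2⟩ := (mk_eq_iff φ φ' y y').mp h
  have he' : ψ ≫ φ.down = ψ' ≫ φ'.down := congrArg ULift.down he
  refine ⟨a * b⁻¹, mul_pos ha (inv_pos.mpr hb), ?_⟩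
  simp only at h1 h2
  rw [h1, h2, realMap_smul, realMap_smul, ← realMap_comp, ← realMap_comp, he', mul_smul, inv_smul_smul₀ hb.ne']

/-- Boundedness of a base change along a cone, as a finite list of cones. -/
theorem exists_finite_lifts {ψ : F ⟶ G} {σ : G.obj (op n)}
    (h : Fan.IsBounded (pullback ψ (Fan.coneMap σ))) :
    ∃ s : Finset (Σ k : ICone, F.obj (op k) × (k ⟶ n)),
      (∀ e ∈ s, ψ.app _ e.2.1 = G.map e.2.2.op σ) ∧
      ∀ (x : Fan.P F) (v : Fan.Orth n), Fan.P.map ψ x = Fan.P.mk σ v →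
        ∃ e ∈ s, ∃ (y : Fan.Orth e.1) (c : ℝ), 0 < c ∧ x = Fan.P.mk e.2.1 y ∧ v.1 = c • e.2.2.realMap y.1 := by
  classical
  obtain ⟨s, hs⟩ := h
  refine ⟨s.image fun e => ⟨e.1, (pullback.fst ψ (Fan.coneMap σ)).app _ e.2,
    ((pullback.snd ψ (Fan.coneMap σ)).app _ e.2).down⟩, ?_, fun x v hxv => ?_⟩
  · intro e he
    obtain ⟨e', -, rfl⟩ := Finset.mem_image.mp he
    have := ConcreteCategory.congr_hom (NatTrans.congr_app (pullback.condition (f := ψ) (g := Fan.coneMap σ)) (op e'.1)) e'.2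
    exact this
  · let idn : (uliftYoneda.{u}.obj n).obj (op n) := ⟨𝟙 n⟩
    have hid : (Fan.coneMap σ).app _ idn = σ := by
      show G.map (𝟙 n).op σ = σ
      simp
    obtain ⟨z, hz1, hz2⟩ := exists_pullback_point ψ (Fan.coneMap σ) x (Fan.P.mk idn v) (by rw [map_mk, hid, hxv])
    obtain ⟨e, he, y, rfl⟩ := hs z
    rw [map_mk] at hz1 hz2
    obtain ⟨c, hc, hcy⟩ := ray_eq_of_mk_eq _ _ _ _ hz2
    refine ⟨_, Finset.mem_image_of_mem _ he, y, c⁻¹, inv_pos.mpr hc, hz1.symm, ?_⟩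
    show v.1 = c⁻¹ • _
    rw [hcy, realMap_id, inv_smul_smul₀ hc.ne']

theorem isBounded_yoneda (n : ICone) : Fan.IsBounded (uliftYoneda.{u}.obj n) := by
  refine ⟨{⟨n, ⟨𝟙 n⟩⟩}, fun x => ⟨_, Finset.mem_singleton_self _, ?_⟩⟩
  obtain ⟨k, φ, v, rfl⟩ := mk_surjective x
  refine ⟨push φ.down v, ?_⟩
  have := mk_glue (F := uliftYoneda.{u}.obj n) φ.down ⟨𝟙 n⟩ v (push φ.down v) 1 one_pos (one_smul _ _).symm
  rw [← this]
  congr 1

end Groth.Agent.FanLib
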