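import Mathlib
import Groth.Agent.FanLib.Basic
import Groth.Prelude.Def_W4c6instabfans3FanCvx

/-!
Formal fans: closed sets of the projective realization, rational points.
-/

set_option autoImplicit false
set_option backward.isDefEq.respectTransparency false
set_option backward.isDefEq.respectTransparency.types false
set_option linter.style.haveILetI false
set_option maxHeartbeats 800000

universe u

open CategoryTheory CategoryTheory.Limits Opposite Instab

namespace Groth.Agent.FanLib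

variable {F G : Fan.{u}} {k n : ICone}

theorem continuous_mk (ξ : F.obj (op n)) : Continuous (Fan.P.mk ξ) :=
  continuous_quot_mk.comp (continuous_sigmaMk (σ := fun e : (Σ n : ICone, F.obj (op n)) => Fan.Orth e.1) (i := ⟨n, ξ⟩))

theorem isClosed_iff (C : Set (Fan.P F)) :
    IsClosed C ↔ ∀ (n : ICone) (ξ : F.obj (op n)), IsClosed (Fan.P.mk ξ ⁻¹' C) := by
  refine ⟨fun h n ξ => h.preimage (continuous_mk ξ), fun h => ?_⟩
  rw [← isQuotientMap_quot_mk.isClosed_preimage, isClosed_sigma_iff]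
  exact fun e => h e.1 e.2

theorem continuous_map (f : F ⟶ G) : Continuous (Fan.P.map f) := by
  rw [continuous_iff_isClosed]
  intro C hC
  rw [isClosed_iff]
  intro n ξ
  exact (hC.preimage (continuous_mk (f.app _ ξ)))

/-- A set of vectors closed under positive rescaling. -/
def Saturated {n : ICone} (S : Set (Fan.Orth n)) : Prop :=
  ∀ v w : Fan.Orth n, v ∈ S → ∀ c : ℝ, 0 < c → w.1 = c • v.1 → w ∈ S

theorem saturated_preimage (ξ : F.obj (op n)) (C : Set (Fan.P F)) : Saturated (Fan.P.mk ξ ⁻¹' C) :=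
  fun v w hv c hc h => by
    show Fan.P.mk ξ w ∈ C
    rw [← mk_smul ξ v w c hc h]
    exact hv

/-- The rays of the image of a closed saturated set form a closed set. -/
theorem isClosed_rays (φ : k ⟶ n) {S : Set (Fan.Orth k)} (hS : IsClosed S) (hsat : Saturated S) :
    IsClosed {v : Fan.Orth n | ∃ (y : Fan.Orth k) (c : ℝ), y ∈ S ∧ 0 < c ∧ v.1 = c • φ.realMap y.1} := by
  obtain ⟨S', hS', rfl⟩ := isClosed_induced_iff.mp hS
  have he : Topology.IsClosedEmbedding (toR φ.toLin) :=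
    LinearMap.isClosedEmbedding_of_injective (LinearMap.ker_eq_bot.mpr (toR_injective φ.injective))
  have horth : IsClosed {x : Fin k.dim → ℝ | ∀ i, 0 ≤ x i} := by
    simp only [Set.setOf_forall]
    exact isClosed_iInter fun i => isClosed_le continuous_const (continuous_apply i)
  have h := (he.isClosedMap _ (hS'.inter horth)).preimage (continuous_subtype_val (p := fun v : Fin n.dim → ℝ => (∀ i, 0 ≤ v i) ∧ v ≠ 0))
  refine (congrArg IsClosed (Set.ext fun v => ?_)).mpr h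
  constructor
  · rintro ⟨y, c, hy, hc, hv⟩
    exact ⟨c • y.1, ⟨hsat y (scale y hc) hy c hc rfl, (smul_orth y hc).1⟩, (realMap_smul φ c y.1).trans hv.symm⟩
  · rintro ⟨x, ⟨hx, hx0⟩, hxv⟩
    have hne : x ≠ 0 := fun h => v.2.2 (by
      show v.1 = 0
      rw [← hxv, h, map_zero])
    exact ⟨⟨x, hx0, hne⟩, 1, hx, one_pos, by rw [one_smul]; exact hxv.symm⟩

theorem saturated_univ : Saturated (Set.univ : Set (Fan.Orth n)) := fun _ _ _ _ _ _ => trivial

theorem isClosedMap_of_bounded {ψ : F ⟶ G} (hψ : Fan.IsBoundedMap ψ) : IsClosedMap (Fan.P.map ψ) := by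
  intro C hC
  rw [isClosed_iff]
  intro n σ
  obtain ⟨s, hs1, hs2⟩ := exists_finite_lifts (hψ n σ)
  have h : Fan.P.mk σ ⁻¹' (Fan.P.map ψ '' C) = ⋃ e ∈ s, {v : Fan.Orth n | ∃ (y : Fan.Orth e.1) (c : ℝ),
      y ∈ Fan.P.mk e.2.1 ⁻¹' C ∧ 0 < c ∧ v.1 = c • e.2.2.realMap y.1} := by
    ext v
    simp only [Set.mem_preimage, Set.mem_iUnion, Set.mem_setOf_eq]
    constructor
    · rintro ⟨x, hx, hxv⟩
      obtain ⟨e, he, y, c, hc, hxe, hv⟩ := hs2 x v hxv
      exact ⟨e, he, y, c, hxe ▸ hx, hc, hv⟩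
    · rintro ⟨e, he, y, c, hy, hc, hv⟩
      refine ⟨_, hy, ?_⟩
      rw [map_mk, hs1 e he]
      exact mk_glue e.2.2 σ y v c hc hv
  rw [h]
  exact s.finite_toSet.isClosed_biUnion fun e _ =>
    isClosed_rays _ (hC.preimage (continuous_mk _)) (saturated_preimage _ _)

/-- The identified pairs of points of two cones of a quasi-separated fan. -/
theorem exists_finite_pairs (hG : G.IsQuasiSeparated) {n n' : ICone} (ξ : G.obj (op n)) (ξ' : G.obj (op n')) :
    ∃ s : Finset (Σ k : ICone, (k ⟶ n) × (k ⟶ n')),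
      (∀ e ∈ s, G.map e.2.1.op ξ = G.map e.2.2.op ξ') ∧
      ∀ (v : Fan.Orth n) (w : Fan.Orth n'), Fan.P.mk ξ v = Fan.P.mk ξ' w ↔
        ∃ e ∈ s, ∃ (y : Fan.Orth e.1) (c c' : ℝ), 0 < c ∧ 0 < c' ∧
          v.1 = c • e.2.1.realMap y.1 ∧ w.1 = c' • e.2.2.realMap y.1 := by
  classical
  obtain ⟨s, hs1, hs2⟩ := exists_finite_lifts (ψ := Fan.coneMap ξ) (σ := ξ') (hG n n' ξ ξ')
  refine ⟨s.image fun e => ⟨e.1, e.2.1.down, e.2.2⟩, ?_, fun v w => ⟨fun h => ?_, ?_⟩⟩
  · intro e he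
    obtain ⟨e', he', rfl⟩ := Finset.mem_image.mp he
    exact hs1 e' he'
  · let idn : (uliftYoneda.{u}.obj n).obj (op n) := ⟨𝟙 n⟩
    have hid : (Fan.coneMap ξ).app _ idn = ξ := by
      show G.map (𝟙 n).op ξ = ξ
      simp
    obtain ⟨e, he, y, c, hc, hx, hw⟩ := hs2 (Fan.P.mk idn v) w (by rw [map_mk, hid, h])
    obtain ⟨d, hd, hdy⟩ := ray_eq_of_mk_eq _ _ _ _ hx
    refine ⟨_, Finset.mem_image_of_mem _ he, y, d, c, hd, hc, ?_, hw⟩
    show v.1 = d • _
    rw [← hdy]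
    exact (realMap_id _).symm
  · rintro ⟨e, he, y, c, c', hc, hc', hv, hw⟩
    obtain ⟨e', he', rfl⟩ := Finset.mem_image.mp he
    rw [← mk_glue _ ξ y v c hc hv, ← mk_glue _ ξ' y w c' hc' hw]
    exact congrArg (fun a => Fan.P.mk a y) (hs1 e' he')

theorem isClosed_image_mk (hF : F.IsQuasiSeparated) (ξ : F.obj (op n)) {S : Set (Fan.Orth n)} (hS : IsClosed S)
    (hsat : Saturated S) : IsClosed (Fan.P.mk ξ '' S) := by
  rw [isClosed_iff]
  intro m ξ'
  obtain ⟨s, hs1, hs2⟩ := exists_finite_pairs hF ξ ξ'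
  have h : Fan.P.mk ξ' ⁻¹' (Fan.P.mk ξ '' S) = ⋃ e ∈ s, {w : Fan.Orth m | ∃ (y : Fan.Orth e.1) (c : ℝ),
      y ∈ push e.2.1 ⁻¹' S ∧ 0 < c ∧ w.1 = c • e.2.2.realMap y.1} := by
    ext w
    simp only [Set.mem_preimage, Set.mem_iUnion, Set.mem_setOf_eq, Set.mem_image]
    constructor
    · rintro ⟨v, hv, hvw⟩
      obtain ⟨e, he, y, c, c', hc, hc', hv', hw'⟩ := (hs2 v w).mp hvw
      exact ⟨e, he, y, c', hsat v _ hv c⁻¹ (inv_pos.mpr hc) (by rw [hv', inv_smul_smul₀ hc.ne']; rfl), hc', hw'⟩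
    · rintro ⟨e, he, y, c, hy, hc, hw⟩
      exact ⟨_, hy, (hs2 _ w).mpr ⟨e, he, y, 1, c, one_pos, hc, (one_smul _ _).symm, hw⟩⟩
  rw [h]
  refine s.finite_toSet.isClosed_biUnion fun e _ => isClosed_rays _ (hS.preimage ?_) ?_
  · exact ((toR e.2.1.toLin).continuous_of_finiteDimensional.comp continuous_subtype_val).subtype_mk _
  · intro a b ha c hc hab
    exact hsat _ _ ha c hc (show e.2.1.realMap b.1 = c • e.2.1.realMap a.1 by rw [hab, realMap_smul])

/-- Rational rays are dense. -/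
theorem dense_rational (n : ICone) :
    Dense {v : Fan.Orth n | ∃ (φ : Fan.one ⟶ n) (c : ℝ), 0 < c ∧ v.1 = c • φ.realMap (Fan.Orth.ones Fan.one).1} := by
  rw [dense_iff_inter_open]
  rintro U hU ⟨v, hv⟩
  obtain ⟨U', hU', rfl⟩ := isOpen_induced_iff.mp hU
  obtain ⟨ε, hε, hball⟩ := Metric.isOpen_iff.mp hU' v.1 hv
  have hO : IsOpen (U' ∩ {x : Fin n.dim → ℝ | ∀ i, 0 < x i}) := by
    refine hU'.inter ?_
    simp only [Set.setOf_forall]
    exact isOpen_iInter_of_finite fun i => isOpen_lt continuous_const (continuous_apply i)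
  have hne : (U' ∩ {x : Fin n.dim → ℝ | ∀ i, 0 < x i}).Nonempty := by
    refine ⟨fun i => v.1 i + ε / 2, hball ?_, fun i => add_pos_of_nonneg_of_pos (v.2.1 i) (half_pos hε)⟩
    rw [Metric.mem_ball, dist_pi_lt_iff hε]
    intro i
    rw [Real.dist_eq, add_sub_cancel_left, abs_of_pos (half_pos hε)]
    linarith
  obtain ⟨q, hq⟩ := (DenseRange.piMap fun _ : Fin n.dim => Rat.denseRange_cast (𝕜 := ℝ)).exists_mem_open hO hne
  have hpos : ∀ i, (0 : ℚ) < q i := fun i => by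
    have := hq.2 i
    simpa using this
  obtain ⟨N, hN⟩ := IsLocalization.exist_integer_multiples_of_finite (nonZeroDivisors ℤ) q
  choose a ha using hN
  have ha' : ∀ i, (((N : ℤ) * a i : ℤ) : ℝ) = ((N : ℤ) : ℝ) ^ 2 * (q i : ℝ) := fun i => by
    have h1 : ((a i : ℤ) : ℚ) = ((N : ℤ) : ℚ) * q i := by simpa [zsmul_eq_mul] using ha i
    have h2 : ((a i : ℤ) : ℝ) = ((N : ℤ) : ℝ) * (q i : ℝ) := by exact_mod_cast h1
    push_cast
    rw [h2]; ring
  have hN0 : (0 : ℝ) < ((N : ℤ) : ℝ) ^ 2 := by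
    have : ((N : ℤ) : ℝ) ≠ 0 := Int.cast_ne_zero.mpr (nonZeroDivisors.ne_zero N.2)
    positivity
  have hw : ∀ i, 0 < (N : ℤ) * a i := fun i => by
    have : (0 : ℝ) < (((N : ℤ) * a i : ℤ) : ℝ) := by rw [ha']; exact mul_pos hN0 (by exact_mod_cast hpos i)
    exact_mod_cast this
  let φ : Fan.one ⟶ n :=
    ⟨(LinearMap.proj (0 : Fin 1)).smulRight (fun i => (N : ℤ) * a i), fun x y h => by
      funext i
      have hi : i = (0 : Fin 1) := Subsingleton.elim (α := Fin 1) _ _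
      subst hi
      have := congrFun h ⟨0, n.dim.pos⟩
      simp only [LinearMap.smulRight_apply, LinearMap.proj_apply, Pi.smul_apply, smul_eq_mul] at this
      exact mul_right_cancel₀ (hw _).ne' this, fun x hx i => by
      simp only [LinearMap.smulRight_apply, LinearMap.proj_apply, Pi.smul_apply, smul_eq_mul]
      exact mul_nonneg (hx _) (hw i).le⟩
  refine ⟨⟨fun i => (q i : ℝ), fun i => (hq.2 i).le, fun h => (hq.2 ⟨0, n.dim.pos⟩).ne' (congrFun h _)⟩, hq.1,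
    φ, (((N : ℤ) : ℝ) ^ 2)⁻¹, inv_pos.mpr hN0, funext fun i => ?_⟩
  show (q i : ℝ) = (((N : ℤ) : ℝ) ^ 2)⁻¹ * ∑ j : Fin 1, ((φ.toLin (Pi.single j 1) i : ℤ) : ℝ) * 1
  rw [Fin.sum_univ_one, mul_one, show φ.toLin (Pi.single (0 : Fin 1) 1) i = (N : ℤ) * a i by simp [φ], ha',
    inv_mul_cancel_left₀ hN0.ne']

theorem isRational_mk (ξ : F.obj (op n)) (v : Fan.Orth n) (φ : Fan.one ⟶ n) (c : ℝ) (hc : 0 < c)
    (h : v.1 = c • φ.realMap (Fan.Orth.ones Fan.one).1) : (Fan.P.mk ξ v).IsRational :=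
  ⟨F.map φ.op ξ, (mk_glue φ ξ _ v c hc h).symm⟩

end Groth.Agent.FanLib
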